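import Mathlib
import Cfsg.Agent.Lib.RI2.HexB

/-! RI2, package CARD (copy of `HxS` for `Frame3`), third part: the coefficients of the commutator relations. -/

set_option autoImplicit false
set_option linter.unusedSectionVars false
set_option linter.unusedSimpArgs false

namespace CfsgLib.RI2

open Subgroup Cfsg CfsgLib.ClAut CfsgLib.Tech CfsgLib.SL2 CfsgLib.FW CfsgLib.HxS
open scoped MatrixGroups

universe u

namespace Frame3

variable {G : Type u} [Group G] {E F : Type} [Field E] [Fintype E] [Field F] [Fintype F]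
  (R : Frame3 G E F)

theorem h0_all (ι : E →+* F)
    (h5 : ∀ (l : Eˣ) c, cn (R.f0 (dg l)) (R.o 5 c) = R.o 5 (ι (l⁻¹ : Eˣ) * c)) (k : ZMod 12) :
    ∀ (l : Eˣ) d, cn (R.f0 (dg l)) (R.x k d) = R.x k ((chi0 k (l : E), chi0 k (ι l)) * d) := by
  set P := fun k => ∀ (l : Eˣ) d,
    cn (R.f0 (dg l)) (R.x k d) = R.x k ((chi0 k (l : E), chi0 k (ι l)) * d) with hP
  have s1 : ∀ k, P k → P (6 - k) := fun k hk l => by
    have := R.char_conj (R.n0_x k) (R.n0_h0 l) (hk l⁻¹)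
    rwa [← chi0_refl k, ← chi0_refl k (ι _), Units.val_inv_eq_inv_val, map_inv₀, inv_inv,
      inv_inv] at this
  have s2 : ∀ k, P k → P (-k) := fun k hk l => by
    have := R.char_conj (R.n3_x k) (R.n3_f0 _) (hk l)
    rwa [← chi0_neg k, ← chi0_neg k (ι _)] at this
  have p0 : P 0 := fun l d => by rw [R.x_eq_e (by decide), R.x_eq_e (by decide), h0_e0]; rfl
  have p4 : P 4 := fun l d => by
    rw [R.x_eq_e (by decide), R.x_eq_e (by decide), R.r04_h4.2, Units.val_inv_eq_inv_val]; rfl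
  have p5 : P 5 := fun l d => by
    rw [R.x_eq_o (by decide), R.x_eq_o (by decide), h5, Units.val_inv_eq_inv_val, map_inv₀]; rfl
  have p3 : P 3 := fun l d => by
    rw [show ((chi0 3 (l : E), chi0 3 (ι l)) : E × F) = 1 from rfl, one_mul, f0_x3]
  show P k
  rcases cases12 k with rfl | rfl | rfl | rfl | rfl | rfl | rfl | rfl | rfl | rfl | rfl | rfl
  exacts [p0, s1 5 p5, s1 4 p4, p3, p4, p5, s1 0 p0, s2 5 p5, s2 4 p4, s2 3 p3, s2 2 (s1 4 p4),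
    s2 1 (s1 5 p5)]

theorem h5_all (φ : F ≃+* F) (κ : F → E) (hκ : κ 1 = 1)
    (h0 : ∀ (l : Fˣ) c, cn (R.f5 (dg l)) (R.e 0 c) = R.e 0 (κ (nr φ l)⁻¹ * c))
    (h1 : ∀ (l : Fˣ) c, cn (R.f5 (dg l)) (R.o 1 c) = R.o 1 (l / shp φ l * c)) (k : ZMod 12) :
    ∀ (l : Fˣ) d, cn (R.f5 (dg l)) (R.x k d) = R.x k ((κ (chi5 φ k l), chi5 φ k l) * d) := by
  set P := fun k => ∀ (l : Fˣ) d,
    cn (R.f5 (dg l)) (R.x k d) = R.x k ((κ (chi5 φ k l), chi5 φ k l) * d) with hP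
  have s1 : ∀ k, P k → P (4 - k) := fun k hk l => by
    have := R.char_conj (R.n5_x k) (R.n5_h5 l) (hk l⁻¹)
    rwa [← chi5_refl φ k, Units.val_inv_eq_inv_val, inv_inv] at this
  have s2 : ∀ k, P k → P (10 - k) := fun k hk l => by
    have := R.char_conj (R.n2_x k) (R.n2_f5 _) (hk l)
    rwa [← chi5_refl' φ k] at this
  have p0 : P 0 := fun l d => by rw [R.x_eq_e (by decide), R.x_eq_e (by decide), h0]; rfl
  have p1 : P 1 := fun l d => by rw [R.x_eq_o (by decide), R.x_eq_o (by decide), h1]; rfl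
  have p5 : P 5 := fun l d => by rw [R.x_eq_o (by decide), R.x_eq_o (by decide), h5_o5]; rfl
  have p2 : P 2 := fun l d => by
    rw [show chi5 φ 2 l = 1 from rfl, hκ, Prod.mk_one_one, one_mul, f5_x2]
  show P k
  rcases cases12 k with rfl | rfl | rfl | rfl | rfl | rfl | rfl | rfl | rfl | rfl | rfl | rfl
  exacts [p0, p1, p2, s1 1 p1, s1 0 p0, p5, s2 4 (s1 0 p0), s2 3 (s1 1 p1), s2 2 p2, s2 1 p1, s2 0 p0,
    s1 5 p5]

theorem char_e {τ : G} {k : ZMod 12} {a : E} {b : F} (h : ∀ d, cn τ (R.x k d) = R.x k ((a, b) * d)) (c : E) :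
    cn τ (R.e k c) = R.e k (a * c) := by rw [e, h, e, Prod.mk_mul_mk, mul_zero]

theorem char_o {τ : G} {k : ZMod 12} {a : E} {b : F} (h : ∀ d, cn τ (R.x k d) = R.x k ((a, b) * d)) (c : F) :
    cn τ (R.o k c) = R.o k (b * c) := by rw [o, h, o, Prod.mk_mul_mk, mul_zero]

variable {R}

namespace Rel

variable {A B : F → E → F} {C Z : F → E → E} {D : F → F → F} {H Y β : F → F → E}
  (r : R.Rel A B C Z D H Y β)
include r

theorem A_one (c : F) : A c 1 = c := by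
  have := r.braid_zero 1 c
  rw [dg_one, map_one, cn_of_comm (by simp)] at this
  exact (R.x_inj_odd (by decide) this).symm

theorem A_lin (m : F) (a : E) : A m a = A 1 a * m := by
  have h1 : ∀ a, ∃ s, ∀ c, A (m * c) a = s * A c a := fun a => by
    rcases eq_or_ne a 0 with rfl | ha
    · exact ⟨0, fun c => by rw [(r.nil0 _).1, zero_mul]⟩
    obtain ⟨u, rfl⟩ := hx_sqrt R.twoF m
    rcases eq_or_ne u 0 with rfl | hu
    · exact ⟨0, fun c => by simp [r.zero0]⟩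
    obtain ⟨s, hs⟩ := R.exists_dg (Units.mk0 a ha)⁻¹ (Units.mk0 u hu)
    refine ⟨s ^ 2, fun c => ?_⟩
    have := cn_cn (R.f0 (dg (Units.mk0 a ha)⁻¹)) (R.f5 (dg (Units.mk0 u hu))) (R.o 5 c)
    rw [hs, h5_o5, r.braid_zero, r.braid_zero, h5_o5] at this
    exact R.x_inj_odd (by decide) this
  obtain ⟨s, hs⟩ := h1 a
  obtain ⟨s', hs'⟩ := h1 (a + 1)
  simp only [(r.add0 _ a 1).1, r.A_one, hs] at hs'
  rcases eq_or_ne s s' with rfl | h
  · have := hs 1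
    rw [mul_one] at this
    linear_combination this - A 1 a * hs' 1
  · exact mul_left_cancel₀ (sub_ne_zero.2 h) (by linear_combination hs' m - m * hs' 1)

theorem exists_iota : ∃ ι : E →+* F, (∀ m a, A m a = ι a * m) ∧
    ∀ (l : Eˣ) c, cn (R.f0 (dg l)) (R.o 5 c) = R.o 5 (ι (l⁻¹ : Eˣ) * c) := by
  have h1 : ∀ (l : Eˣ) c, cn (R.f0 (dg l)) (R.o 5 c) = R.o 5 (A 1 (l⁻¹ : Eˣ) * c) := fun l c => by
    rw [r.braid_zero, r.A_lin]
  refine ⟨⟨⟨⟨fun a => A 1 a, r.A_one 1⟩, fun a b => ?_⟩, (r.nil0 1).1, fun a b => (r.add0 1 a b).1⟩, r.A_lin, h1⟩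
  rcases eq_or_ne a 0 with rfl | ha
  · simp [r.nil0]
  rcases eq_or_ne b 0 with rfl | hb
  · simp [r.nil0]
  have h3 := h1 ((Units.mk0 a ha)⁻¹ * (Units.mk0 b hb)⁻¹) 1
  rw [dg_mul, map_mul, cn_mul, h1, h1] at h3
  simpa [mul_comm] using (R.x_inj_odd (by decide) h3).symm

theorem tor_comm (l : Eˣ) (m : Fˣ) : cn (R.f0 (dg l)) (R.f5 (dg m)) = R.f5 (dg m) := by
  obtain ⟨s, hs⟩ := R.exists_dg l m
  obtain ⟨ι, -, h⟩ := r.exists_iota
  have := cn_cn (R.f0 (dg l)) (R.f5 (dg m)) (R.o 5 1)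
  rw [hs, h5_o5, h, h, h5_o5, mul_one, mul_one, mul_comm] at this
  rw [hs, Units.ext (hx_sq_inj R.twoF (mul_right_cancel₀ ((map_ne_zero ι).2 (l⁻¹).ne_zero)
    (R.x_inj_odd (by decide) this)))]

theorem exists_nu : ∃ ν : F → E, (∀ a b, ν (a * b) = ν a * ν b) ∧ ν 1 = 1 ∧
    (∀ m a, C m a = ν m * a) ∧ (∀ m a, m ≠ 0 → B m a = A m⁻¹ (ν m * a)) ∧
    ∀ (l : Fˣ) c, cn (R.f5 (dg l)) (R.e 0 c) = R.e 0 (ν (l⁻¹ : Fˣ) * c) := by
  have h0 : ∀ m a, C m a = C m 1 * a := fun m a => by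
    rcases eq_or_ne m 0 with rfl | hm
    · simp [r.zero0]
    obtain ⟨u, rfl⟩ := hx_sqrt R.twoE a
    rcases eq_or_ne u 0 with rfl | hu
    · simp [r.nil0]
    have := cn_cn (R.f0 (dg (Units.mk0 u hu))) (R.f5 (dg (Units.mk0 m hm)⁻¹)) (R.e 0 1)
    rw [r.tor_comm, (r.braid_five _ _).1, h0_e0, h0_e0, (r.braid_five _ _).1] at this
    simpa [mul_comm] using (R.x_inj_even (by decide) this).symm
  have h1 : ∀ (l : Fˣ) c, cn (R.f5 (dg l)) (R.e 0 c) = R.e 0 (C (l⁻¹ : Fˣ) 1 * c) := fun l c => by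
    rw [(r.braid_five l c).1, h0]
  refine ⟨fun m => C m 1, fun a b => ?_, ?_, h0, fun m a hm => ?_, h1⟩
  · rcases eq_or_ne a 0 with rfl | ha
    · simp [r.zero0]
    rcases eq_or_ne b 0 with rfl | hb
    · simp [r.zero0]
    have h3 := h1 ((Units.mk0 a ha)⁻¹ * (Units.mk0 b hb)⁻¹) 1
    rw [dg_mul, map_mul, cn_mul, h1, h1] at h3
    simpa [mul_comm] using (R.x_inj_even (by decide) h3).symm
  · have := h1 1 1
    rw [dg_one, map_one, cn_of_comm (by simp)] at this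
    simpa using (R.x_inj_even (by decide) this).symm
  · rw [← h0]
    simpa using (r.braid_five (Units.mk0 m hm)⁻¹ a).2

theorem h5_o1 (l : Fˣ) (c : F) : cn (R.f5 (dg l)) (R.o 1 c) = R.o 1 (A (l ^ 2 * c) (C (l⁻¹ : Fˣ) 1)) := by
  have a1 : ∀ l, ∀ y ∈ R.X 1, cn (R.f5 (dg l)) y ∈ R.X 1 := fun l y => conj_mem_of_mem_normalizer (R.t51 l)
  have a0 : ∀ l, ∀ y ∈ R.X 0, cn (R.f5 (dg l)) y ∈ R.X 0 := fun l y => conj_mem_of_mem_normalizer (R.t50 l)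
  obtain ⟨b, h1⟩ := R.ex_o (by decide) (a1 l _ (R.o_mem 1 c))
  obtain ⟨b3, h3⟩ := R.ex_o (k := 3) (by decide) (R.norm_conj (R.n5_x 1) (R.n5_h5 l) (a1 _) _ (R.o_mem 3 (B c 1)))
  obtain ⟨b4, h4⟩ := R.ex_e (k := 4) (by decide) (R.norm_conj (R.n5_x 0) (R.n5_h5 l) (a0 _) _ (R.e_mem 4 (C c 1)))
  have h2 : cn (R.f5 (dg l)) (R.e 2 (Z c 1)) = R.e 2 (Z c 1) := R.f5_x2 _ _
  have h6 := congrArg (cn (R.f5 (dg l))) (r.h0 c 1)
  rw [cn_cn, h5_o5, (r.braid_five _ _).1, r.h0, r.A_one] at h6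
  simp only [kk, map_mul, (r.braid_five _ _).1, h1, h2, h3, h4] at h6
  rw [h1, (r.kk_inj h6).2.1]

theorem equiv {τ : G} {χ : ZMod 12 → E} {χ' : ZMod 12 → F}
    (h : ∀ k d, cn τ (R.x k d) = R.x k ((χ k, χ' k) * d)) :
    (∀ m a, χ 4 * C m a = C (χ' 5 * m) (χ 0 * a) ∧ χ 2 * Z m a = Z (χ' 5 * m) (χ 0 * a)) ∧
      ∀ m c, χ 4 * β m c = β (χ' 5 * m) (χ' 3 * c) := by
  have h1 := fun k => R.char_e (h k)
  have h2 := fun k => R.char_o (h k)
  refine ⟨fun m a => ?_, fun m c => ?_⟩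
  · have h6 := congrArg (cn τ) (r.h0 m a)
    rw [cn_cn, h1, h2, r.h0] at h6
    simp only [kk, map_mul, h1, h2] at h6
    obtain ⟨-, -, -, e4, e2⟩ := r.kk_inj h6
    exact ⟨e4.symm, e2.symm⟩
  · have h6 := congrArg (cn τ) (r.h3 m c)
    rw [cn_cn, h2, h2, r.h3, map_mul, h1, h2, mul_right_inj] at h6
    exact (R.x_inj_even (by decide) h6).symm

end Rel

end Frame3

end CfsgLib.RI2
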